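import Mathlib
import Cfsg.Agent.Lib.Ly.BData
import Cfsg.Agent.Lib.Ly.Pres

/-! The relators hold in dimension 111 (generated). -/

set_option maxRecDepth 100000
set_option Elab.async false

namespace CfsgLib.Ly

open CfsgLib.CosetEnum CfsgLib.LinP

/-- The generators as words in the stored letters. -/
def BT : List (List ℕ) := [[0],
  [2],
  [4],
  [6],
  [8],
  [10],
  [0],
  [2, 0, 3],
  [2, 2, 0, 3, 3],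
  [3, 3, 0, 2, 2],
  [4],
  [12],
  [14],
  [16],
  [18],
  [0, 0],
  [6],
  [7],
  [2, 2, 1, 3, 1, 2, 2, 5, 0, 4, 1, 5, 6, 5, 2, 2, 1, 4, 2],
  [0, 2, 1, 2, 2, 1, 2, 2, 5, 0, 4, 2, 4, 3, 6, 4, 3, 3, 6, 4, 2, 4],
  [5, 7, 1, 5, 1, 2, 5, 7],
  [2, 6],
  [7, 3],
  [1, 3, 1, 2, 5, 3, 0, 5, 2, 0],
  [3, 3, 0, 4, 1, 2, 4, 2],
  [1, 3, 1, 4, 0, 2, 0],
  [3, 1, 2, 4, 3, 0, 2],
  [2, 2, 1, 3, 4, 2, 0, 4, 3, 3, 5],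
  [1, 1, 1],
  [2, 1, 3, 1, 1],
  [0, 2, 2, 0, 3, 3, 1],
  [1, 6, 3, 5, 1, 2, 5, 7, 2, 5, 3, 1, 5, 0, 3, 0, 2, 0, 3],
  [0, 3, 3, 1, 4, 2, 5, 2, 1, 5, 5, 6, 4, 0, 4, 1, 4, 3, 7],
  [2, 0, 3, 1, 3, 3, 1, 3, 4, 2, 2, 4, 2, 6, 4, 3, 3, 6, 4, 2, 4],
  [5, 3, 5, 7, 2, 2, 5, 7, 3, 5, 3, 3, 5, 2, 0, 2, 2, 0, 2, 1, 3],
  [1, 5, 7, 0, 5, 3, 0, 5, 7, 1, 5, 0, 4, 3, 3, 5, 3, 1, 3, 3],
  [1, 5, 7, 2, 1, 3, 5, 7, 2, 1, 3, 5, 3, 0, 3, 3, 0, 3],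
  [7, 0, 4, 2, 4, 1, 5, 7, 0, 3, 1, 4, 1, 3, 3, 1, 2, 1],
  [5, 1, 4, 2, 5, 7, 4, 1, 4, 0, 4, 3, 1, 3, 1, 2]]
theorem BL_wf : ∀ i < 10, wfS PB (nth (idP PB) BL (2 * i)) = true := by decide +kernel
theorem BL_inv : ∀ i < 10, wfS PB (nth (idP PB) BL (2 * i + 1)) = true ∧
    Nat.beq (mulS PB (nth (idP PB) BL (2 * i)) (nth (idP PB) BL (2 * i + 1))) (idP PB) = true := by decide +kernel
def B_rel_l0 : List (List ℕ) := [[0, 0, 0, 0, 0, 0, 0, 0], [2, 2, 2, 2, 2], [0, 2, 0, 2, 0, 2, 0, 2], [1, 1, 3, 0, 0, 2], [1, 3, 0, 2, 1, 3, 0, 2, 1, 3, 0, 2], [20, 5], [22, 1, 5, 0]]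
theorem B_rel_0 : allL (fun r => eqM PB BL (expand 0 BT r) []) B_rel_l0 = true := by decide +kernel
def B_rel_l1 : List (List ℕ) := [[24, 3, 5, 2], [26, 2, 5, 3], [28, 23, 21, 22, 20], [20, 20, 20, 20, 20], [28, 28, 28, 28, 28], [21, 29, 20, 28], [23, 29, 22, 28], [25, 29, 24, 28], [27, 29, 26, 28], [21, 25, 20, 24, 28, 28]]
theorem B_rel_1 : allL (fun r => eqM PB BL (expand 0 BT r) []) B_rel_l1 = true := by decide +kernel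
def B_rel_l2 : List (List ℕ) := [[21, 27, 20, 26, 29, 29], [23, 25, 22, 24, 28], [23, 27, 22, 26], [25, 27, 24, 26, 28], [1, 22, 0, 20, 20], [1, 24, 0, 27, 21, 24, 24], [1, 26, 0, 27, 21, 27, 24, 22, 21]]
theorem B_rel_2 : allL (fun r => eqM PB BL (expand 0 BT r) []) B_rel_l2 = true := by decide +kernel
def B_rel_l3 : List (List ℕ) := [[1, 28, 0, 29, 29], [3, 22, 2, 26, 20, 26, 25, 23], [3, 24, 2, 24, 24, 27, 21, 21], [3, 28, 2, 29], [10, 7, 21, 7, 2, 1, 3, 21, 7, 1, 21, 0, 21, 1, 20, 0, 2, 2], [10, 10]]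
theorem B_rel_3 : allL (fun r => eqM PB BL (expand 0 BT r) []) B_rel_l3 = true := by decide +kernel
def B_rel_l4 : List (List ℕ) := [[11, 20, 10, 20, 3, 25, 3], [11, 24, 10, 0, 26, 20, 23, 1, 3, 3], [11, 26, 10, 27, 24, 3, 3], [11, 28, 10, 26, 21, 24, 21], [10, 0, 0, 10, 26, 29, 21, 1, 2, 1, 3, 3, 1]]
theorem B_rel_4 : allL (fun r => eqM PB BL (expand 0 BT r) []) B_rel_l4 = true := by decide +kernel
def B_rel_l5 : List (List ℕ) := [[11, 2, 10, 26, 26, 24, 21], [10, 0, 2, 2, 0, 3, 0, 10, 26, 29, 21, 1, 1], [10, 22, 10, 23, 10, 22, 27, 0, 24, 0, 0, 0]]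
theorem B_rel_5 : allL (fun r => eqM PB BL (expand 0 BT r) []) B_rel_l5 = true := by decide +kernel
def B_rel_l6 : List (List ℕ) := [[6, 11, 3, 22, 1, 11, 1, 11, 1, 28, 26, 20, 2, 0, 3, 3, 1], [6, 6, 1, 1, 1, 1], [3, 7, 2, 6], [7, 0, 6, 1, 1, 1], [6, 28, 6, 28, 6, 28, 6, 28, 6, 28]]
theorem B_rel_6 : allL (fun r => eqM PB BL (expand 0 BT r) []) B_rel_l6 = true := by decide +kernel
def B_rel_l7 : List (List ℕ) := [[6, 28, 6, 29, 6, 28, 1, 1], [12, 1], [14, 2, 1, 3], [16, 2, 2, 1, 3, 3], [18, 3, 3, 1, 2, 2], [30, 1, 1], [32, 7], [34, 6], [36, 3, 5, 0, 3, 3, 4, 7, 4, 0, 5, 1, 4, 3, 3, 0, 2, 0, 3, 3], [38, 5, 3, 5, 7, 2, 2, 5, 7, 2, 5, 3, 5, 1, 4, 3, 3, 0, 3, 3, 0, 3, 1], [40, 6, 4, 3, 0, 4, 0, 6, 4], [42, 7, 3], [44, 2, 6], [46, 1, 3, 4, 1, 2, 4, 3, 0, 2, 0], [48, 3, 5, 3, 0, 5, 1, 2, 2], [50, 1, 3, 1, 5, 0,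 2, 0], [52, 3, 1, 2, 5, 3, 0, 2], [54, 4, 2, 2, 5, 1, 3, 5, 2, 0, 3, 3], [56, 0, 0, 0], [58, 0, 0, 2, 0, 3], [60, 0, 2, 2, 1, 3, 3, 1], [62, 2, 1, 3, 1, 2, 1, 4, 0, 2, 4, 3, 6, 4, 3, 0, 4, 2, 7, 0], [64, 6, 2, 5, 0, 5, 1, 5, 7, 4, 4, 0, 3, 4, 3, 5, 0, 2, 2, 1], [66, 5, 3, 5, 7, 2, 2, 5, 7, 3, 5, 3, 3, 5, 2, 0, 2, 2, 0, 2, 1, 3], [68, 2, 0, 3, 1, 3, 3, 1, 3, 4, 2, 2, 4, 2, 6, 4, 3, 3, 6, 4, 2, 4], [70, 2, 2, 0, 2, 4, 2, 2, 5, 1, 4, 0, 6, 4, 1, 2, 4, 1, 6, 4, 0], [72, 2, 1, 2, 2, 1, 2, 4, 2, 0, 3, 6, 4, 2, 0, 3, 6, 4, 0], [74, 0, 3, 0, 2, 2, 0, 5, 0, 2, 1, 6, 4, 0, 5, 3, 5, 1, 6], [76, 3, 0, 2, 0, 2, 5, 1, 5, 0, 5, 6, 4, 3, 5, 0, 4], [9, 20, 8, 47], [9, 22, 8, 49], [9, 24, 8, 51]]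
theorem B_rel_7 : allL (fun r => eqM PB BL (expand 0 BT r) []) B_rel_l7 = true := by decide +kernel
def B_rel_l8 : List (List ℕ) := [[9, 26, 8, 53], [9, 28, 8, 55], [9, 12, 8, 57], [9, 14, 8, 59]]
theorem B_rel_8 : allL (fun r => eqM PB BL (expand 0 BT r) []) B_rel_l8 = true := by decide +kernel
def B_rel_l9 : List (List ℕ) := [[9, 16, 8, 61], [8, 8, 31], [18, 8, 18, 8, 18, 8, 30]]
theorem B_rel_9 : allL (fun r => eqM PB BL (expand 0 BT r) []) B_rel_l9 = true := by decide +kernel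
def B_rel_l10 : List (List ℕ) := [[40, 8, 62, 8, 70, 8]]
theorem B_rel_10 : allL (fun r => eqM PB BL (expand 0 BT r) []) B_rel_l10 = true := by decide +kernel
def B_rel_l11 : List (List ℕ) := [[9, 34, 9, 72, 8, 32, 8, 38]]
theorem B_rel_11 : allL (fun r => eqM PB BL (expand 0 BT r) []) B_rel_l11 = true := by decide +kernel
def B_rel_l12 : List (List ℕ) := [[8, 66, 8, 64, 9, 68, 9, 74]]
theorem B_rel_12 : allL (fun r => eqM PB BL (expand 0 BT r) []) B_rel_l12 = true := by decide +kernel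
def B_rel_l13 : List (List ℕ) := [[8, 42, 8, 36, 9, 44, 9, 76]]
theorem B_rel_13 : allL (fun r => eqM PB BL (expand 0 BT r) []) B_rel_l13 = true := by decide +kernel
theorem B_rel : allL (fun r => eqM PB BL (expand 0 BT r) []) (RH ++ RZ) = true := by
  rw [show (RH ++ RZ) = (B_rel_l0 ++ (B_rel_l1 ++ (B_rel_l2 ++ (B_rel_l3 ++ (B_rel_l4 ++ (B_rel_l5 ++ (B_rel_l6 ++ (B_rel_l7 ++ (B_rel_l8 ++ (B_rel_l9 ++ (B_rel_l10 ++ (B_rel_l11 ++ (B_rel_l12 ++ B_rel_l13))))))))))))) by decide +kernel]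
  exact (allL_append B_rel_0 (allL_append B_rel_1 (allL_append B_rel_2 (allL_append B_rel_3 (allL_append B_rel_4 (allL_append B_rel_5 (allL_append B_rel_6 (allL_append B_rel_7 (allL_append B_rel_8 (allL_append B_rel_9 (allL_append B_rel_10 (allL_append B_rel_11 (allL_append B_rel_12 B_rel_13)))))))))))))

end CfsgLib.Ly
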