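import Mathlib
import Cfsg.Agent.Lib.Ly.DCtx

/-! Double coset enumeration for the Lyons group (generated). -/

set_option maxRecDepth 100000
set_option Elab.async false

namespace CfsgLib.Ly

open CfsgLib.CosetEnum

/-- Words for the base points. -/
def QW : List (List ℕ) := [[6], [6, 10], [6, 2]]
/-- The base points. -/
noncomputable def q : ℕ → X := qq QW
theorem e0 (w : List ℕ) : Edge ψ z f q 0 w 1 [] := Edge.zero (qq_zero QW) rfl w
theorem st1 : Stabs ψ f q 1 ZW := D.stabs_one (qq_zero QW) rfl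
theorem i0 : z = ψ (ev f [19, 31, 31]) * z * ψ (ev f [19, 31]) * z * ψ (ev f [19]) :=
  id3 (zv (v := [19, 31, 9, 19, 9, 19]) 9218 (by decide +kernel)) (by decide +kernel)
theorem i6 : z = ψ (ev f [41, 31]) * z * ψ (ev f [71, 31]) * z * ψ (ev f [63]) :=
  id3 (zv (v := [41, 9, 71, 9, 63]) 10242 (by decide +kernel)) (by decide +kernel)
theorem i7 : z = ψ (ev f [30, 62]) * z * ψ (ev f [70]) * z * ψ (ev f [40]) :=
  id3 (zv' (zv (v := [41, 9, 71, 9, 63]) 10242 (by decide +kernel))) (by decide +kernel)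
theorem i8 : z = ψ (ev f [63, 31]) * z * ψ (ev f [41, 31]) * z * ψ (ev f [71]) :=
  id3 (zv (v := [63, 9, 41, 9, 71]) 10246 (by decide +kernel)) (by decide +kernel)
theorem i9 : z = ψ (ev f [30, 70]) * z * ψ (ev f [40]) * z * ψ (ev f [62]) :=
  id3 (zv' (zv (v := [63, 9, 41, 9, 71]) 10246 (by decide +kernel))) (by decide +kernel)
theorem i10 : z = ψ (ev f [71, 31]) * z * ψ (ev f [63, 31]) * z * ψ (ev f [41]) :=
  id3 (zv (v := [71, 9, 63, 9, 41]) 10250 (by decide +kernel)) (by decide +kernel)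
theorem i11 : z = ψ (ev f [30, 40]) * z * ψ (ev f [62]) * z * ψ (ev f [70]) :=
  id3 (zv' (zv (v := [71, 9, 63, 9, 41]) 10250 (by decide +kernel))) (by decide +kernel)
theorem i12 : z = ψ (ev f [34, 31]) * z * ψ (ev f [72]) * z * ψ (ev f [32]) * z * ψ (ev f [38]) :=
  id4 (zv (v := [34, 9, 72, 8, 32, 8, 38]) 11267 (by decide +kernel)) (by decide +kernel)
theorem i13 : z = ψ (ev f [30, 39, 31]) * z * ψ (ev f [33, 31]) * z * ψ (ev f [73]) * z * ψ (ev f [35]) :=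
  id4 (zv' (zv (v := [34, 9, 72, 8, 32, 8, 38]) 11267 (by decide +kernel))) (by decide +kernel)
theorem i21 : z = ψ (ev f [30, 66]) * z * ψ (ev f [64, 31]) * z * ψ (ev f [68, 31]) * z * ψ (ev f [74]) :=
  id4 (zv' (zv (v := [75, 8, 69, 8, 65, 9, 67]) 12288 (by decide +kernel))) (by decide +kernel)
theorem i28 : z = ψ (ev f [77]) * z * ψ (ev f [45]) * z * ψ (ev f [37, 31]) * z * ψ (ev f [43]) :=
  id4 (zv (v := [77, 8, 45, 8, 37, 9, 43]) 13312 (by decide +kernel)) (by decide +kernel)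
theorem e1 : Edge ψ z f q 1 [] 0 [30] :=
  D.simp (D.look (Edge.inv hu (e0 [])) st1 [] [10, 10] (by decide +kernel)) (by decide +kernel)
theorem e2 : Edge ψ z f q 1 [6] 2 [] :=
  Edge.new rfl
theorem e3 : Edge ψ z f q 1 [6, 2] 4 [] :=
  Edge.new rfl
theorem e4 : Edge ψ z f q 1 [6, 10] 3 [] :=
  Edge.new rfl
theorem e5 : Edge ψ z f q 3 [] 1 [6, 10, 30] :=
  D.simp (D.look (Edge.inv hu e4)
    Stabs.nil [] [10, 10] (by decide +kernel)) (by decide +kernel)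
theorem st3_1 : Stabs ψ f q 3 [[10, 4, 4, 6, 6, 10, 1, 26]] :=
  Stabs.nil.append (D.coinc (D.look e4 st1 [13, 15, 6, 6, 11] [11, 13, 15, 7, 10, 5, 13] (by decide +kernel))
    e4 (by decide +kernel))
theorem st3_2 : Stabs ψ f q 3 [[10, 4, 4, 6, 6, 10, 1, 26], [3, 5, 10, 6, 6, 10, 5, 23, 0]] :=
  st3_1.append (D.coinc (D.look e4 st1 [10, 7, 12, 10, 14, 12, 11] [7, 11, 6, 12, 10, 14, 12] (by decide +kernel))
    e4 (by decide +kernel))
theorem e6 : Edge ψ z f q 4 [] 1 [31, 42] :=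
  D.simp (D.look (Edge.inv hu e3)
    Stabs.nil [] [10, 10] (by decide +kernel)) (by decide +kernel)
theorem st4_1 : Stabs ψ f q 4 [[2, 1, 3, 1]] :=
  Stabs.nil.append (D.coinc (D.look e3 st1 [13, 15] [13, 11] (by decide +kernel))
    e3 (by decide +kernel))
theorem st4_2 : Stabs ψ f q 4 [[2, 1, 3, 1], [2, 1, 3]] :=
  st4_1.append (D.coinc (D.look e3 st1 [10, 10, 14] [10, 10, 12] (by decide +kernel))
    e3 (by decide +kernel))
theorem e7 : Edge ψ z f q 2 [] 1 [6, 30] :=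
  D.simp (D.look (Edge.inv hu e2)
    Stabs.nil [] [10, 10] (by decide +kernel)) (by decide +kernel)
theorem st2_1 : Stabs ψ f q 2 [[0, 2, 0, 3]] :=
  Stabs.nil.append (D.coinc (D.look e2 st1 [12, 10] [10, 12] (by decide +kernel))
    e2 (by decide +kernel))
theorem st2_2 : Stabs ψ f q 2 [[0, 2, 0, 3], [3, 0, 3, 3, 0, 3]] :=
  st2_1.append (D.coinc (D.look e2 st1 [12, 15, 13, 11] [10, 13, 15, 13] (by decide +kernel))
    e2 (by decide +kernel))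
theorem st2_3 : Stabs ψ f q 2 [[0, 2, 0, 3], [3, 0, 3, 3, 0, 3], [0, 2, 0, 2, 2, 0, 2]] :=
  st2_2.append (D.coinc (D.look e2 st1 [10, 12, 14, 12, 11] [10, 12, 14, 12, 11] (by decide +kernel))
    e2 (by decide +kernel))
theorem e8 : Edge ψ z f q 1 [3] 1 [14, 3, 27, 31, 52] :=
  D.simp (D.look (Edge.tr3 (w := [17, 4, 19, 24, 14]) i0
      (D.look e1 st1 [] [2, 7, 15, 13, 7] (by decide +kernel))
      (e0 _))
    st1 [14] [6, 13, 1, 14, 12, 11] (by decide +kernel)) (by decide +kernel)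
theorem e9 : Edge ψ z f q 1 [10] 1 [30, 63, 15, 49] :=
  D.simp (D.look (Edge.tr3 (w := [17, 49, 14, 46, 40]) i6
      (D.look e1 st1 [] [2, 7, 15, 13, 7] (by decide +kernel))
      (e0 _))
    st1 [11, 12, 0] [5, 15, 7, 9, 11] (by decide +kernel)) (by decide +kernel)
theorem st2_4 : Stabs ψ f q 2 [[0, 2, 0, 3], [3, 0, 3, 3, 0, 3], [0, 2, 0, 2, 2, 0, 2], [0, 2, 0, 25, 1, 6, 10, 5, 25]] :=
  st2_3.append (D.coinc (Edge.tr4 (w := [17, 49, 14, 46, 6]) i12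
      (D.look e1 st1 [] [2, 7, 15, 13, 7] (by decide +kernel))
      (e0 _)
      (D.look e2 st1 [] [] (by decide +kernel)))
    (D.look e2 st1 [15, 2, 15, 2] [15, 13] (by decide +kernel)) (by decide +kernel))
theorem st2_5 : Stabs ψ f q 2 [[1, 2, 1, 3, 1], [0, 0, 0, 2, 0, 3], [2, 1, 2, 2, 1, 2], [1, 2, 6, 25, 10, 5, 25], [1, 5, 10, 26, 29, 6, 5]] :=
  D.word st2_4 [[0, 3, 5], [1, 1], [3], [6, 1, 5], [6, 3, 0, 7, 0]] (by decide +kernel) (by decide)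
theorem st3_3 : Stabs ψ f q 3 [[10, 4, 4, 6, 6, 10, 1, 26], [3, 5, 10, 6, 6, 10, 5, 23, 0], [10, 2, 1, 25, 10, 1, 5, 28, 7, 28]] :=
  st3_2.append (D.coinc (Edge.tr4 (w := [4, 18, 4, 66, 31, 51]) i13
      (D.look e1 st1 [] [2, 7, 15, 13, 7] (by decide +kernel))
      (e0 _)
      (D.look e4 st1 [5, 15] [0, 12, 0, 14, 12, 10, 0] (by decide +kernel)))
    (D.look e4 st1 [13, 3, 0, 15] [0, 12, 6, 10, 7, 12, 10] (by decide +kernel)) (by decide +kernel))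
theorem st3_4 : Stabs ψ f q 3 [[10, 4, 4, 6, 6, 10, 1, 26], [3, 5, 10, 6, 6, 10, 5, 23, 0], [10, 2, 1, 25, 10, 1, 5, 28, 7, 28], [10, 1, 27, 3, 6, 26, 24, 2]] :=
  st3_3.append (D.coinc (Edge.tr4 (w := [43, 39, 14, 53, 37, 49]) i21
      (D.look e1 st1 [] [2, 7, 15, 13, 7] (by decide +kernel))
      (e0 _)
      (D.look e4 st1 [5, 15] [7, 12, 2, 14, 5, 12] (by decide +kernel)))
    (D.look e4 st1 [12, 10, 5, 6] [11, 11, 13, 4, 11] (by decide +kernel)) (by decide +kernel))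
theorem st3_5 : Stabs ψ f q 3 [[0, 0, 23, 5, 25], [2, 23, 23, 26, 3], [24, 26, 0, 0, 4], [0, 24, 29, 6, 5, 24, 24], [0, 27, 10, 6, 6, 10, 2]] :=
  D.word st3_4 [[0, 2, 0, 0], [0, 0, 0, 0], [2, 0, 0, 0], [0, 3, 1, 7, 1], [3, 1, 2]] (by decide +kernel) (by decide)
theorem st4_3 : Stabs ψ f q 4 [[2, 1, 3, 1], [2, 1, 3], [1, 6, 23, 25, 4, 27, 6, 23, 27, 25, 25]] :=
  st4_2.append (D.coinc (Edge.tr4 (w := [16, 58, 5, 50, 24, 76]) i28
      (D.look e1 st1 [] [2, 7, 15, 13, 7] (by decide +kernel))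
      (e0 _)
      (D.look e3 st1 [4, 14, 6, 13, 10, 5] [3, 7, 5, 5] (by decide +kernel)))
    (D.look e3 st1 [15, 1, 7, 5] [1, 14, 3, 13, 3, 10, 13] (by decide +kernel)) (by decide +kernel))
theorem st4_4 : Stabs ψ f q 4 [[0], [6, 6], [0, 6, 6], [2, 0, 3], [0, 2, 1, 3], [2, 1, 3, 1], [0, 2, 1, 3, 1], [0, 0, 0, 2, 0, 3], [3, 3, 0, 2, 2, 7], [0, 3, 3, 0, 2, 2, 6], [26, 6, 25, 4, 25, 7, 26]] :=
  D.word st4_3 [[1, 2], [0, 2, 0, 3], [2, 0], [3], [1, 2, 2], [0], [0, 3], [0, 0], [0, 4, 1, 1, 5], [0, 0, 4, 3, 1, 4], [0, 4, 1, 4, 2, 1]] (by decide +kernel) (by decide)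
theorem e10 : Edge ψ z f q 3 [2] 3 [0, 4, 25, 46, 18] :=
  D.simp (D.look (Edge.tr3 (w := [70, 0, 26, 14, 41]) i0
      (D.look e5 st3_5 [] [1, 11, 5, 1, 14, 13] (by decide +kernel))
      (D.look e4 st1 [10, 7, 11] [5, 14, 0, 8, 14] (by decide +kernel)))
    st3_5 [8] [4, 0, 0, 10, 4] (by decide +kernel)) (by decide +kernel)
theorem e11 : Edge ψ z f q 3 [23, 10, 2] 4 [60, 41, 67, 14, 51] :=
  D.simp (D.look (Edge.tr3 (w := [3, 63, 4, 31, 62, 22]) i7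
      (D.look e5 st3_5 [] [1, 11, 5, 1, 14, 13] (by decide +kernel))
      (D.look e3 st1 [1, 12, 10, 4] [5, 12, 11, 3, 15, 13, 11] (by decide +kernel)))
    st3_5 [] [0, 11, 4, 15, 4, 12] (by decide +kernel)) (by decide +kernel)
theorem e12 : Edge ψ z f q 4 [22, 10] 3 [57, 71, 5, 47] :=
  D.simp (D.look (Edge.inv hu e11)
    st4_4 [1, 1] [2, 13, 5, 1] (by decide +kernel)) (by decide +kernel)
theorem e13 : Edge ψ z f q 3 [3, 0, 10] 4 [2, 67, 10, 24, 51, 31] :=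
  D.simp (D.look (Edge.tr3 (w := [3, 77, 3, 77, 63, 56]) i9
      (D.look e5 st3_5 [] [1, 11, 5, 1, 14, 13] (by decide +kernel))
      (D.look e3 st1 [10, 6, 3, 3] [3, 6, 0, 14, 12, 10] (by decide +kernel)))
    st3_5 [] [0, 6, 6, 10, 14, 3] (by decide +kernel)) (by decide +kernel)
theorem e14 : Edge ψ z f q 4 [5, 10] 3 [4, 4, 15, 71, 47] :=
  D.simp (D.look (Edge.inv hu e13)
    st4_4 [0, 9] [4, 4, 12, 6] (by decide +kernel)) (by decide +kernel)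
theorem e15 : Edge ψ z f q 3 [10] 2 [2, 27, 3, 30, 71, 51] :=
  D.simp (D.look (Edge.tr3 (w := [17, 50, 4, 1, 40, 58]) i7
      (D.look e5 st3_5 [] [15, 5, 15, 7, 11] (by decide +kernel))
      (D.look e2 st1 [15, 4] [10, 9, 14, 13, 7, 10, 14, 12] (by decide +kernel)))
    st3_5 [9, 0] [0, 14, 5, 7, 14] (by decide +kernel)) (by decide +kernel)
theorem e16 : Edge ψ z f q 2 [1, 22, 10] 3 [3, 10, 53, 59, 46] :=
  D.simp (D.look (Edge.inv hu e15)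
    st2_5 [] [13, 2, 2, 4] (by decide +kernel)) (by decide +kernel)
theorem e17 : Edge ψ z f q 3 [3, 1, 23, 10] 2 [28, 0, 70, 16, 46] :=
  D.simp (D.look (Edge.tr3 (w := [14, 17, 4, 23, 57, 40]) i6
      (D.look e5 st3_5 [] [12, 15, 0, 3, 10] (by decide +kernel))
      (D.look e2 st1 [10, 6] [4, 14, 8] (by decide +kernel)))
    st3_5 [] [1, 1, 2, 10, 14, 2] (by decide +kernel)) (by decide +kernel)
theorem e18 : Edge ψ z f q 2 [6] 3 [14, 50, 6, 72, 55, 57] :=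
  D.simp (D.look (Edge.inv hu e17)
    st2_5 [7] [10, 13, 6, 10, 14, 13, 3, 10] (by decide +kernel)) (by decide +kernel)
theorem e19 : Edge ψ z f q 4 [3] 2 [2, 18, 3] :=
  D.simp (D.look (Edge.tr3 (w := [0, 5, 14, 19, 4, 1]) i0
      (D.look e6 st4_4 [] [0, 11, 4, 13, 4, 10] (by decide +kernel))
      (D.look e2 st1 [] [10, 12, 2, 10, 14, 12, 10, 4] (by decide +kernel)))
    st4_4 [] [10, 1, 12, 14, 13, 11, 6, 13] (by decide +kernel)) (by decide +kernel)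
theorem e20 : Edge ψ z f q 2 [2] 4 [19, 31] :=
  D.simp (D.look (Edge.inv hu e19)
    st2_5 [] [11, 13, 15] (by decide +kernel)) (by decide +kernel)
theorem e21 : Edge ψ z f q 4 [23, 10] 2 [5, 26, 0, 16, 71, 47] :=
  D.simp (D.look (Edge.tr3 (w := [58, 5, 1, 70, 1, 27]) i7
      (D.look e6 st4_4 [] [0, 11, 4, 13, 4, 10] (by decide +kernel))
      (D.look e2 st1 [2, 2] [14, 9, 13, 5, 10] (by decide +kernel)))
    st4_4 [1, 6, 0] [0, 12, 6, 0, 11, 15] (by decide +kernel)) (by decide +kernel)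
theorem e22 : Edge ψ z f q 2 [23, 10] 4 [4, 52, 14, 5, 70, 17] :=
  D.simp (D.look (Edge.inv hu e21)
    st2_5 [0, 4] [1, 7, 14, 1, 14, 12] (by decide +kernel)) (by decide +kernel)
theorem e23 : Edge ψ z f q 4 [22, 22, 10] 4 [7, 63, 6, 63, 39, 51] :=
  D.simp (D.look (Edge.tr3 (w := [53, 6, 73, 19, 55]) i9
      (D.look e6 st4_4 [] [0, 11, 4, 13, 4, 10] (by decide +kernel))
      (D.look e3 st1 [13, 1, 10] [14, 13, 2, 11, 2, 5] (by decide +kernel)))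
    st4_4 [7, 1] [10, 15, 1, 1, 4] (by decide +kernel)) (by decide +kernel)
theorem e24 : Edge ψ z f q 4 [5, 1, 10] 4 [63, 63, 1, 27, 60] :=
  D.simp (D.look (Edge.inv hu e23)
    st4_4 [6, 0] [2, 12, 15, 7, 10, 12] (by decide +kernel)) (by decide +kernel)
theorem e25 : Edge ψ z f q 4 [2] 4 [2, 30] :=
  D.simp (D.look (Edge.tr3 (w := [22, 62, 15, 70, 18]) i0
      (D.look e6 st4_4 [] [0, 11, 4, 1, 14, 13, 11] (by decide +kernel))
      (D.look e3 st1 [14, 12, 10] [2, 10, 12, 10, 14, 13, 5, 10] (by decide +kernel)))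
    st4_4 [0, 6] [1, 2, 9, 10, 13, 11] (by decide +kernel)) (by decide +kernel)
theorem e26 : Edge ψ z f q 4 [22, 5, 10] 4 [5, 60, 5, 70, 52, 17] :=
  D.simp (D.look (Edge.tr3 (w := [29, 47, 30, 42, 73]) i11
      (D.look e6 st4_4 [] [0, 11, 4, 1, 14, 13, 11] (by decide +kernel))
      (D.look e3 st1 [2, 2, 12, 10] [1, 10, 13, 5] (by decide +kernel)))
    st4_4 [0, 6, 0] [1, 13, 7, 14, 12, 6, 11] (by decide +kernel)) (by decide +kernel)
theorem e27 : Edge ψ z f q 4 [10] 4 [16, 5, 71, 4, 53] :=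
  D.simp (D.look (Edge.tr3 (w := [4, 23, 25, 62]) i8
      (D.look e6 st4_4 [] [0, 3, 5, 11, 11] (by decide +kernel))
      (D.look e3 st1 [14, 1] [10, 14, 13, 7, 14, 4] (by decide +kernel)))
    st4_4 [2] [12, 1, 12, 5] (by decide +kernel)) (by decide +kernel)
theorem e28 : Edge ψ z f q 2 [10] 2 [40, 5, 31, 26, 48] :=
  D.simp (D.look (Edge.tr3 (w := [17, 10, 3, 26]) i8
      (D.look e7 st2_5 [] [3, 11, 3, 12, 3] (by decide +kernel))
      (D.look e2 st1 [3, 3] [10, 14, 4, 12, 11, 2, 15, 13] (by decide +kernel)))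
    st2_5 [3] [5, 7, 12, 10, 14] (by decide +kernel)) (by decide +kernel)
theorem e29 : Edge ψ z f q 3 [29, 22, 7, 10] 3 [23, 74, 4, 49, 26, 70] :=
  D.simp (D.look (Edge.tr3 (w := [17, 66, 59, 5, 75, 49]) i11
      (D.look e11 st3_5 [] [1, 6, 4, 11, 11, 11] (by decide +kernel))
      (D.look e12 st4_4 [20, 7, 1] [0, 3, 13, 8, 11] (by decide +kernel)))
    st3_5 [3] [0, 13, 0, 7, 15, 7] (by decide +kernel)) (by decide +kernel)
theorem e30 : Edge ψ z f q 3 [28, 6, 10] 4 [23, 15, 41, 63, 24, 19] :=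
  D.simp (D.look (Edge.tr3 (w := [2, 29, 76, 58, 75, 47]) i7
      (D.look e11 st3_5 [] [12, 0, 8, 14, 12] (by decide +kernel))
      (D.look e24 st4_4 [8, 2, 21, 21] [10, 6, 12, 14, 12, 11, 6, 12] (by decide +kernel)))
    st3_5 [0, 0] [0, 2, 6, 11, 13, 6] (by decide +kernel)) (by decide +kernel)
theorem e31 : Edge ψ z f q 4 [29, 6, 10] 3 [0, 53, 43, 55, 57, 39] :=
  D.simp (D.look (Edge.inv hu e30)
    st4_4 [0, 0, 20, 0] [0, 14, 12, 11, 7, 14, 3] (by decide +kernel)) (by decide +kernel)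
theorem e32 : Edge ψ z f q 3 [6, 10, 3] 3 [36, 52, 42, 77, 5, 55] :=
  D.simp (D.look (Edge.tr3 (w := [25, 23, 10, 1, 41, 60]) i8
      (D.look e11 st3_5 [] [12, 0, 8, 14, 12] (by decide +kernel))
      (D.look e31 st4_4 [1, 21, 0, 0] [8, 10, 14, 13, 1, 11] (by decide +kernel)))
    st3_5 [1, 1] [10, 8, 14, 13, 7, 11] (by decide +kernel)) (by decide +kernel)
theorem e33 : Edge ψ z f q 3 [29, 3, 23, 6, 10] 4 [42, 23, 53, 17, 66, 52] :=
  D.simp (D.look (Edge.tr3 (w := [22, 77, 59, 27, 67, 7]) i9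
      (D.look e11 st3_5 [] [12, 0, 8, 14, 12] (by decide +kernel))
      (D.look e24 st4_4 [20, 6] [10, 6, 1, 13, 15, 13] (by decide +kernel)))
    st3_5 [] [8, 11, 2, 12, 10] (by decide +kernel)) (by decide +kernel)
theorem e34 : Edge ψ z f q 4 [27, 24, 6] 3 [25, 70, 65, 22, 30, 49] :=
  D.simp (D.look (Edge.inv hu e33)
    st4_4 [20, 0, 0] [1, 12, 2, 11, 7, 14] (by decide +kernel)) (by decide +kernel)
theorem e35 : Edge ψ z f q 3 [22, 4, 7, 10] 4 [7, 51, 3, 73, 70, 29] :=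
  D.simp (D.look (Edge.tr3 (w := [49, 67, 3, 41, 38, 25]) i10
      (D.look e11 st3_5 [] [12, 0, 8, 14, 12] (by decide +kernel))
      (D.look e26 st4_4 [7, 21, 1, 1, 21] [1, 15, 13, 3, 3, 13] (by decide +kernel)))
    st3_5 [0] [0, 14, 12, 6, 6, 10, 12] (by decide +kernel)) (by decide +kernel)
theorem e36 : Edge ψ z f q 4 [23, 5, 6] 3 [47, 19, 43, 51, 17, 36] :=
  D.simp (D.look (Edge.inv hu e35)
    st4_4 [1, 16] [1, 15, 3, 13, 7, 10, 14] (by decide +kernel)) (by decide +kernel)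
theorem e37 : Edge ψ z f q 3 [5, 6] 3 [52, 63, 3, 55, 39, 43] :=
  D.simp (D.look (Edge.tr3 (w := [30, 65, 6, 70, 10, 62]) i6
      (D.look e11 st3_5 [] [4, 10, 6, 8, 13] (by decide +kernel))
      (D.look e12 st4_4 [0, 21, 1, 1, 20] [5, 1, 10, 4, 1] (by decide +kernel)))
    st3_5 [7, 0, 8] [10, 7, 1, 10, 12] (by decide +kernel)) (by decide +kernel)
theorem e38 : Edge ψ z f q 3 [10, 23, 7, 10] 2 [23, 63, 50, 36, 5, 10] :=
  D.simp (D.look (Edge.tr3 (w := [15, 26, 74, 26, 10, 29]) i9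
      (D.look e11 st3_5 [] [0, 12, 0, 6, 10, 15] (by decide +kernel))
      (D.look e21 st4_4 [0, 21, 21, 7, 1] [0, 10, 12, 14, 12, 10, 1, 13] (by decide +kernel)))
    st3_5 [] [0, 10, 5, 1, 12, 11] (by decide +kernel)) (by decide +kernel)
theorem e39 : Edge ψ z f q 2 [27, 7, 0, 10] 3 [5, 10, 23, 66, 15, 22] :=
  D.simp (D.look (Edge.inv hu e38)
    st2_5 [0] [0, 4, 14, 5] (by decide +kernel)) (by decide +kernel)
theorem e40 : Edge ψ z f q 3 [29, 6, 10] 4 [23, 27, 15, 70, 14, 75] :=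
  D.simp (D.look (Edge.tr3 (w := [15, 75, 4, 66, 62, 49]) i7
      (D.look e11 st3_5 [] [6, 6, 9, 12, 11] (by decide +kernel))
      (D.look e26 st4_4 [0, 21, 1, 1, 20] [0, 6, 0, 13, 3] (by decide +kernel)))
    st3_5 [0, 0] [0, 7, 4, 10, 13, 6] (by decide +kernel)) (by decide +kernel)
theorem e41 : Edge ψ z f q 4 [24, 6, 3] 3 [16, 40, 2, 50, 52, 70] :=
  D.simp (D.look (Edge.inv hu e40)
    st4_4 [0, 0, 21, 0] [9, 12, 10, 6, 12, 14] (by decide +kernel)) (by decide +kernel)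
theorem e42 : Edge ψ z f q 3 [4, 7, 10] 2 [4, 25, 16, 7, 10, 47, 57] :=
  D.simp (D.look (Edge.tr3 (w := [52, 27, 10, 38, 67, 10]) i8
      (D.look e11 st3_5 [] [1, 5, 11, 6, 9, 13] (by decide +kernel))
      (D.look e21 st4_4 [20, 6, 0] [0, 8, 12, 14, 11, 4] (by decide +kernel)))
    st3_5 [3, 4] [6, 9, 11, 2, 13] (by decide +kernel)) (by decide +kernel)
theorem e43 : Edge ψ z f q 2 [29, 6, 3] 3 [66, 48, 3, 60, 3, 48] :=
  D.simp (D.look (Edge.inv hu e42)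
    st2_5 [7, 0] [12, 14, 1, 2, 14] (by decide +kernel)) (by decide +kernel)
theorem e44 : Edge ψ z f q 3 [26, 7, 10] 3 [76, 24, 5, 74, 5, 14] :=
  D.simp (D.look (Edge.tr3 (w := [52, 30, 10, 0, 40, 50]) i9
      (D.look e11 st3_5 [] [11, 7, 15, 6, 0] (by decide +kernel))
      (D.look e36 st4_4 [0, 21, 16, 1] [2, 11, 5, 2, 12] (by decide +kernel)))
    st3_5 [2, 5] [0, 14, 13, 0, 2, 14, 11] (by decide +kernel)) (by decide +kernel)
theorem e45 : Edge ψ z f q 3 [4, 6] 4 [77, 10, 26, 71, 72, 71] :=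
  D.simp (D.look (Edge.tr3 (w := [19, 48, 2, 54, 67, 30]) i8
      (D.look e11 st3_5 [] [6, 14, 13, 0, 15] (by decide +kernel))
      (D.look e26 st4_4 [8, 20, 20, 0] [12, 9, 11, 4, 14, 13] (by decide +kernel)))
    st3_5 [9, 7, 4] [1, 13, 4, 14, 13, 7] (by decide +kernel)) (by decide +kernel)
theorem e46 : Edge ψ z f q 4 [10, 29, 6] 3 [75, 56, 73, 70] :=
  D.simp (D.look (Edge.inv hu e45)
    st4_4 [0, 0, 6] [10, 6, 15, 13, 7, 14] (by decide +kernel)) (by decide +kernel)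
theorem e47 : Edge ψ z f q 4 [22, 3, 10, 0, 10] 4 [59, 74, 49, 0, 39, 4] :=
  D.simp (D.look (Edge.tr3 (w := [10, 62, 0, 43, 67, 53]) i6
      (D.look e12 st4_4 [] [6, 1, 6, 11, 15] (by decide +kernel))
      (D.look e35 st3_5 [9, 1, 6, 1, 3] [8, 15, 1, 5, 13, 11] (by decide +kernel)))
    st4_4 [] [10, 12, 15, 13, 7, 10] (by decide +kernel)) (by decide +kernel)
theorem e48 : Edge ψ z f q 4 [23, 25, 7, 10] 4 [75, 75, 76, 2, 67, 43] :=
  D.simp (D.look (Edge.inv hu e47)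
    st4_4 [1] [2, 10, 12, 1, 10, 0] (by decide +kernel)) (by decide +kernel)
theorem e49 : Edge ψ z f q 4 [10, 29, 6, 3] 4 [40, 48, 10, 39, 2, 26] :=
  D.simp (D.look (Edge.tr3 (w := [10, 62, 2, 40, 52, 15]) i8
      (D.look e12 st4_4 [] [6, 1, 6, 11, 15] (by decide +kernel))
      (D.look e30 st3_5 [5, 6, 0, 2] [15, 13, 6, 15, 5] (by decide +kernel)))
    st4_4 [7, 0] [4, 1, 10, 14, 12] (by decide +kernel)) (by decide +kernel)
theorem e50 : Edge ψ z f q 4 [29, 3, 22, 6] 2 [25, 62, 2, 76, 67, 14] :=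
  D.simp (D.look (Edge.tr3 (w := [62, 72, 6, 52, 16, 24]) i7
      (D.look e12 st4_4 [] [8, 13, 1, 2] (by decide +kernel))
      (D.look e38 st3_5 [1, 6, 2] [12, 11, 15, 13, 4, 14, 6] (by decide +kernel)))
    st4_4 [21] [13, 15, 6, 12, 6] (by decide +kernel)) (by decide +kernel)
theorem e51 : Edge ψ z f q 2 [4, 25, 6] 4 [2, 62, 67, 3, 50, 14, 46] :=
  D.simp (D.look (Edge.inv hu e50)
    st2_5 [6, 0] [4, 8, 15, 0, 11] (by decide +kernel)) (by decide +kernel)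
theorem e52 : Edge ψ z f q 4 [22, 6, 10] 4 [28, 72, 3, 25, 74, 42] :=
  D.simp (D.look (Edge.tr3 (w := [22, 30, 7, 10, 3, 16]) i9
      (D.look e12 st4_4 [] [8, 13, 1, 2] (by decide +kernel))
      (D.look e11 st3_5 [8, 1, 7, 0, 7] [14, 3, 10, 7, 15] (by decide +kernel)))
    st4_4 [] [2, 7, 12, 14, 12, 10] (by decide +kernel)) (by decide +kernel)
theorem e53 : Edge ψ z f q 4 [10, 26, 6] 4 [3, 57, 67, 25, 75, 51] :=
  D.simp (D.look (Edge.tr3 (w := [50, 63, 0, 43, 72, 0]) i8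
      (D.look e12 st4_4 [] [0, 3, 11, 13] (by decide +kernel))
      (D.look e40 st3_5 [9, 2, 1, 7] [13, 11, 7, 15, 3, 0] (by decide +kernel)))
    st4_4 [7] [2, 11, 6, 11] (by decide +kernel)) (by decide +kernel)
theorem e54 : Edge ψ z f q 4 [22, 10, 1, 10] 4 [28, 49, 40, 75, 72, 56] :=
  D.simp (D.look (Edge.tr3 (w := [0, 7, 49, 18, 73, 27]) i11
      (D.look e12 st4_4 [] [0, 3, 11, 13] (by decide +kernel))
      (D.look e30 st3_5 [2, 7, 3] [13, 0, 14, 12, 7, 11, 13] (by decide +kernel)))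
    st4_4 [] [12, 14, 12, 10, 5, 7] (by decide +kernel)) (by decide +kernel)
theorem e55 : Edge ψ z f q 4 [28, 6, 2] 4 [62, 49, 14, 40, 14, 29] :=
  D.simp (D.look (Edge.inv hu e54)
    st4_4 [20, 6] [15, 6, 10, 7, 13] (by decide +kernel)) (by decide +kernel)
theorem e56 : Edge ψ z f q 4 [10, 28, 26, 6] 4 [29, 77, 3, 38, 36, 56] :=
  D.simp (D.look (Edge.tr3 (w := [38, 67, 62, 5, 7, 62]) i7
      (D.look e12 st4_4 [] [7, 10, 9, 13, 15] (by decide +kernel))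
      (D.look e11 st3_5 [1, 7, 0, 3, 7, 1] [0, 13, 0, 11, 13, 0] (by decide +kernel)))
    st4_4 [6] [12, 6, 11, 15, 1] (by decide +kernel)) (by decide +kernel)
theorem e57 : Edge ψ z f q 4 [22, 10, 0, 10] 4 [66, 38, 75, 36, 75, 40] :=
  D.simp (D.look (Edge.tr3 (w := [2, 72, 14, 5, 64, 67]) i9
      (D.look e12 st4_4 [] [7, 10, 9, 13, 15] (by decide +kernel))
      (D.look e11 st3_5 [9, 1, 6, 2, 2] [0, 0, 14, 12, 7, 14] (by decide +kernel)))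
    st4_4 [] [12, 10, 0, 14, 6, 12] (by decide +kernel)) (by decide +kernel)
theorem e58 : Edge ψ z f q 4 [2, 10, 4, 6] 4 [2, 65, 55, 6, 36, 17, 75] :=
  D.simp (D.look (Edge.tr3 (w := [3, 48, 7, 37, 23, 76]) i11
      (D.look e12 st4_4 [] [7, 10, 9, 13, 15] (by decide +kernel))
      (D.look e45 st3_5 [5, 0, 9, 7, 2] [13, 11, 3, 1, 14, 13] (by decide +kernel)))
    st4_4 [11] [12, 0, 5, 14, 13, 11] (by decide +kernel)) (by decide +kernel)
theorem e59 : Edge ψ z f q 4 [23, 10, 0, 10] 4 [19, 41, 3, 49, 74, 10] :=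
  D.simp (D.look (Edge.tr3 (w := [5, 22, 3, 10, 17, 41]) i11
      (D.look e12 st4_4 [] [3, 3, 5, 12, 10] (by decide +kernel))
      (D.look e35 st3_5 [8, 4, 4, 7] [1, 1, 10, 7, 15] (by decide +kernel)))
    st4_4 [2] [0, 14, 6, 13, 7, 10, 15] (by decide +kernel)) (by decide +kernel)
theorem e60 : Edge ψ z f q 4 [4, 22, 6, 10] 4 [60, 63, 6, 64, 10, 64] :=
  D.simp (D.look (Edge.inv hu e59)
    st4_4 [21, 1] [3, 4, 15, 13] (by decide +kernel)) (by decide +kernel)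
theorem e61 : Edge ψ z f q 4 [22, 10, 29, 6] 4 [3, 54, 36, 65, 72, 36] :=
  D.simp (D.look (Edge.tr3 (w := [63, 70, 6, 24, 18, 41]) i7
      (D.look e12 st4_4 [] [1, 12, 8, 10, 6] (by decide +kernel))
      (D.look e33 st3_5 [8, 2, 7, 4] [10, 13, 11, 3, 6] (by decide +kernel)))
    st4_4 [0, 0, 6, 0] [3, 10, 14, 4, 11, 15] (by decide +kernel)) (by decide +kernel)
theorem e62 : Edge ψ z f q 3 [10, 0, 10] 4 [18, 36, 5, 27, 54, 61] :=
  D.simp (D.look (Edge.tr3 (w := [10, 57, 10, 51, 3, 53]) i8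
      (D.look e15 st3_5 [] [5, 14, 7, 0, 13] (by decide +kernel))
      (D.look e51 st2_5 [8, 0, 9] [2, 5, 6, 11] (by decide +kernel)))
    st3_5 [] [1, 12, 1, 11, 6, 14] (by decide +kernel)) (by decide +kernel)
theorem e63 : Edge ψ z f q 4 [28, 6] 3 [10, 59, 10, 60, 73, 50] :=
  D.simp (D.look (Edge.inv hu e62)
    st4_4 [1, 20, 20] [15, 0, 6, 10, 13, 11] (by decide +kernel)) (by decide +kernel)
theorem e64 : Edge ψ z f q 2 [10, 22, 6, 2] 2 [50, 73, 67, 41, 14, 48] :=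
  D.simp (D.look (Edge.tr3 (w := [64, 63, 37, 17, 63, 1]) i11
      (D.look e16 st2_5 [] [11, 13, 11, 5, 0] (by decide +kernel))
      (D.look e15 st3_5 [7, 8] [1, 12, 2, 6, 10, 12] (by decide +kernel)))
    st2_5 [6] [0, 7, 5, 13, 6, 10] (by decide +kernel)) (by decide +kernel)
theorem e65 : Edge ψ z f q 2 [28, 6] 2 [65, 0, 60, 48, 39] :=
  D.simp (D.look (Edge.tr3 (w := [16, 22, 2, 71, 62, 59]) i9
      (D.look e16 st2_5 [] [0, 2, 10, 13, 6, 15, 13] (by decide +kernel))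
      (D.look e15 st3_5 [7, 9, 6, 0] [6, 10, 14, 13, 11, 5, 14, 13] (by decide +kernel)))
    st2_5 [1, 7] [7, 8, 10, 12, 4, 14] (by decide +kernel)) (by decide +kernel)
theorem st1k : Stabs ψ f q 1 ks := D.word st1 [[1, 5, 7, 7, 5], [0, 5, 3, 6], [2, 2, 7], [5, 14, 1, 15], [9, 9], [11, 11, 11], [11, 11, 13], [10, 14, 11]] (by decide +kernel) (by decide)
theorem nbr1 : ∀ h, Nbr ψ z q 5 1 h :=
  nbr_all (ws := [[], [6], [6, 2], [6, 10], [3], [10]]) st1k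
    (List.forall_mem_cons.2 ⟨e1.nbr (by decide), (List.forall_mem_cons.2 ⟨e2.nbr (by decide), (List.forall_mem_cons.2 ⟨e3.nbr (by decide), (List.forall_mem_cons.2 ⟨e4.nbr (by decide), (List.forall_mem_cons.2 ⟨e8.nbr (by decide), (List.forall_mem_cons.2 ⟨e9.nbr (by decide), List.forall_mem_nil _⟩)⟩)⟩)⟩)⟩)⟩)
    (sched := [0, 1, 2, 5, 3, 0, 4, 5, 2, 3, 5, 2, 3, 0, 6, 5, 7, 2, 0, 6, 5]) (by decide +kernel)
theorem nbr2 : ∀ h, Nbr ψ z q 5 2 h :=
  nbr_all (ws := [[], [1, 22, 10], [6], [2], [23, 10], [10], [27, 7, 0, 10], [29, 6, 3], [4, 25, 6], [10, 22, 6, 2], [28, 6]]) st2_5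
    (List.forall_mem_cons.2 ⟨e7.nbr (by decide), (List.forall_mem_cons.2 ⟨e16.nbr (by decide), (List.forall_mem_cons.2 ⟨e18.nbr (by decide), (List.forall_mem_cons.2 ⟨e20.nbr (by decide), (List.forall_mem_cons.2 ⟨e22.nbr (by decide), (List.forall_mem_cons.2 ⟨e28.nbr (by decide), (List.forall_mem_cons.2 ⟨e39.nbr (by decide), (List.forall_mem_cons.2 ⟨e43.nbr (by decide), (List.forall_mem_cons.2 ⟨e51.nbr (by decide), (List.forall_mem_cons.2 ⟨e64.nbr (by decide), (List.forall_mem_cons.2 ⟨e65.nbr (by decide), List.forall_mem_nil _⟩)⟩)⟩)⟩)⟩)⟩)⟩)⟩)⟩)⟩)⟩)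
    (sched := [0, 3, 2, 4, 0, 1, 2, 0, 4, 0, 1, 2, 0, 4, 0, 1, 0, 0]) (by decide +kernel)
theorem nbr3 : ∀ h, Nbr ψ z q 5 3 h :=
  nbr_all (ws := [[], [2], [23, 10, 2], [3, 0, 10], [10], [3, 1, 23, 10], [29, 22, 7, 10], [28, 6, 10], [6, 10, 3], [29, 3, 23, 6, 10], [22, 4, 7, 10], [5, 6], [10, 23, 7, 10], [29, 6, 10], [4, 7, 10], [26, 7, 10], [4, 6], [10, 0, 10]]) st3_5
    (List.forall_mem_cons.2 ⟨e5.nbr (by decide), (List.forall_mem_cons.2 ⟨e10.nbr (by decide), (List.forall_mem_cons.2 ⟨e11.nbr (by decide), (List.forall_mem_cons.2 ⟨e13.nbr (by decide), (List.forall_mem_cons.2 ⟨e15.nbr (by decide), (List.forall_mem_cons.2 ⟨e17.nbr (by decide), (List.forall_mem_cons.2 ⟨e29.nbr (by decide), (List.forall_mem_cons.2 ⟨e30.nbr (by decide), (List.forall_mem_cons.2 ⟨e32.nbr (by decide), (List.forall_mem_cons.2 ⟨e33.nbr (by decide), (List.forall_mem_cons.2 ⟨e35.nbr (by decide), (List.forall_mem_cons.2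 ⟨e37.nbr (by decide), (List.forall_mem_cons.2 ⟨e38.nbr (by decide), (List.forall_mem_cons.2 ⟨e40.nbr (by decide), (List.forall_mem_cons.2 ⟨e42.nbr (by decide), (List.forall_mem_cons.2 ⟨e44.nbr (by decide), (List.forall_mem_cons.2 ⟨e45.nbr (by decide), (List.forall_mem_cons.2 ⟨e62.nbr (by decide), List.forall_mem_nil _⟩)⟩)⟩)⟩)⟩)⟩)⟩)⟩)⟩)⟩)⟩)⟩)⟩)⟩)⟩)⟩)⟩)⟩)
    (sched := [0, 1, 3, 2, 0, 4, 1, 3, 0, 2, 1, 4, 3, 0, 2, 0, 1, 3]) (by decide +kernel)
theorem nbr4 : ∀ h, Nbr ψ z q 5 4 h :=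
  nbr_all (ws := [[], [22, 10], [5, 10], [3], [23, 10], [22, 22, 10], [5, 1, 10], [2], [22, 5, 10], [10], [29, 6, 10], [27, 24, 6], [23, 5, 6], [24, 6, 3], [10, 29, 6], [22, 3, 10, 0, 10], [23, 25, 7, 10], [10, 29, 6, 3], [29, 3, 22, 6], [22, 6, 10], [10, 26, 6], [22, 10, 1, 10], [28, 6, 2], [10, 28, 26, 6], [22, 10, 0, 10], [2, 10, 4, 6], [23, 10, 0, 10], [4, 22, 6, 10], [22, 10, 29, 6], [28, 6]]) st4_4
    (List.forall_mem_cons.2 ⟨e6.nbr (by decide), (List.forall_mem_cons.2 ⟨e12.nbr (by decide), (List.forall_mem_cons.2 ⟨e14.nbr (by decide), (List.forall_mem_cons.2 ⟨e19.nbr (by decide), (List.forall_mem_cons.2 ⟨e21.nbr (by decide), (List.forall_mem_cons.2 ⟨e23.nbr (by decide), (List.forall_mem_cons.2 ⟨e24.nbr (by decide), (List.forall_mem_cons.2 ⟨e25.nbr (by decide), (List.forall_mem_cons.2 ⟨e26.nbr (by decide), (List.forall_mem_cons.2 ⟨e27.nbr (by decide), (List.forall_mem_cons.2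 ⟨e31.nbr (by decide), (List.forall_mem_cons.2 ⟨e34.nbr (by decide), (List.forall_mem_cons.2 ⟨e36.nbr (by decide), (List.forall_mem_cons.2 ⟨e41.nbr (by decide), (List.forall_mem_cons.2 ⟨e46.nbr (by decide), (List.forall_mem_cons.2 ⟨e47.nbr (by decide), (List.forall_mem_cons.2 ⟨e48.nbr (by decide), (List.forall_mem_cons.2 ⟨e49.nbr (by decide), (List.forall_mem_cons.2 ⟨e50.nbr (by decide), (List.forall_mem_cons.2 ⟨e52.nbr (by decide), (List.forall_mem_cons.2 ⟨e53.nbr (by decide), (List.forall_mem_cons.2 ⟨e54.nbr (by decide), (List.forall_mem_cons.2 ⟨e55.nbr (by decide), (List.forall_mem_cons.2 ⟨e56.nbr (by decide), (List.forall_mem_cons.2 ⟨e57.nbr (by decide), (List.forall_mem_cons.2 ⟨e58.nbr (by decide), (List.forall_mem_cons.2 ⟨e59.nbr (by decide), (List.forall_mem_cons.2 ⟨e60.nbr (by decide), (List.forall_mem_cons.2 ⟨e61.nbr (by decide), (List.forall_mem_cons.2 ⟨e63.nbr (by decide),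 List.forall_mem_nil _⟩)⟩)⟩)⟩)⟩)⟩)⟩)⟩)⟩)⟩)⟩)⟩)⟩)⟩)⟩)⟩)⟩)⟩)⟩)⟩)⟩)⟩)⟩)⟩)⟩)⟩)⟩)⟩)⟩)⟩)
    (sched := [0, 0, 1, 3, 0, 8, 10, 0, 0, 1, 0, 10, 0, 0, 0, 1]) (by decide +kernel)
/-- Generators of a stabiliser. -/
def SW2 : List (List ℕ) := [[1, 2, 1, 3, 1], [0, 0, 0, 2, 0, 3], [2, 1, 2, 2, 1, 2], [1, 2, 6, 25, 10, 5, 25], [1, 5, 10, 26, 29, 6, 5]]
theorem stF2 : Stabs ψ f q 2 SW2 := st2_5
/-- Generators of a stabiliser. -/
def SW3 : List (List ℕ) := [[0, 0, 23, 5, 25], [2, 23, 23, 26, 3], [24, 26, 0, 0, 4], [0, 24, 29, 6, 5, 24, 24], [0, 27, 10, 6, 6, 10, 2]]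
theorem stF3 : Stabs ψ f q 3 SW3 := st3_5
/-- Generators of a stabiliser. -/
def SW4 : List (List ℕ) := [[0], [6, 6], [0, 6, 6], [2, 0, 3], [0, 2, 1, 3], [2, 1, 3, 1], [0, 2, 1, 3, 1], [0, 0, 0, 2, 0, 3], [3, 3, 0, 2, 2, 7], [0, 3, 3, 0, 2, 2, 6], [26, 6, 25, 4, 25, 7, 26]]
theorem stF4 : Stabs ψ f q 4 SW4 := st4_4

end CfsgLib.Ly
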